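import Groth.Agent.SubobjQuot.Basic
import Mathlib.CategoryTheory.Abelian.GrothendieckAxioms.Colim
import Mathlib.CategoryTheory.Abelian.GrothendieckCategory.Basic

/-!
Directed families of subobjects which jointly cover, in an AB5 abelian category.
-/

set_option autoImplicit false
universe w v u

open CategoryTheory CategoryTheory.Limits

namespace Groth.Agent.SubobjQuot

variable {A : Type u} [Category.{v} A] [Abelian A] {X : A} {J : Type w} [Preorder J]

/-- The subobjects `N j` jointly cover `X`. -/
def Covers (N : J → Subobject X) : Prop :=
  ∀ ⦃Z : A⦄ (g : X ⟶ Z), (∀ j, (N j).arrow ≫ g = 0) → g = 0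

/-- The diagram of a monotone family of subobjects. -/
noncomputable def famFunctor (N : J → Subobject X) (hN : Monotone N) : J ⥤ A where
  obj j := (N j : A)
  map {j j'} h := Subobject.ofLE _ _ (hN h.le)
  map_id j := Subobject.ofLE_refl _
  map_comp f g := (Subobject.ofLE_comp_ofLE _ _ _ _ _).symm

noncomputable def famCocone (N : J → Subobject X) (hN : Monotone N) : Cocone (famFunctor N hN) :=
  Cocone.mk X
    { app := fun j => (N j).arrow
      naturality := fun j j' h =>
        (Subobject.ofLE_arrow (hN h.le)).trans (Category.comp_id _).symm }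

variable [IsDirectedOrder J] [Nonempty J] [HasColimitsOfSize.{w, w} A] [AB5OfSize.{w, w} A]

/-- A directed covering family of subobjects is a colimit. -/
noncomputable def isColimitFam (N : J → Subobject X) (hN : Monotone N) (hc : Covers N) :
    IsColimit (famCocone N hN) := by
  have : IsConnected J := IsFiltered.isConnected _
  have hm : Mono (colimit.desc _ (famCocone N hN)) := by
    let α : famFunctor N hN ⟶ (Functor.const _).obj X := (famCocone N hN).ι
    have : ∀ j, Mono (α.app j) := fun j => inferInstanceAs (Mono (N j).arrow)
    have := NatTrans.mono_of_mono_app α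
    exact colim.map_mono' α (colimit.isColimit _) (isColimitConstCocone J X) _ (fun j =>
      (colimit.ι_desc (famCocone N hN) j).trans (Category.comp_id _).symm)
  have he : Epi (colimit.desc _ (famCocone N hN)) :=
    Preadditive.epi_of_cancel_zero _ fun g hg => hc g fun j => by
      have := congrArg (colimit.ι (famFunctor N hN) j ≫ ·) hg
      rw [← Category.assoc, colimit.ι_desc, comp_zero] at this
      exact this
  have : IsIso (colimit.desc _ (famCocone N hN)) := isIso_of_mono_of_epi _
  have : IsIso ((colimit.isColimit _).desc (famCocone N hN)) := this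
  exact IsColimit.ofPointIso (colimit.isColimit _)

/-- In AB5, covering families pull back to covering families. -/
theorem Covers.pullback {N : J → Subobject X} (hN : Monotone N) (hc : Covers N) {B : A}
    (i : B ⟶ X) [Mono i] : Covers fun j => (Subobject.pullback i).obj (N j) := by
  intro Z g hg
  have : IsConnected J := IsFiltered.isConnected _
  let P := fun j => (Subobject.pullback i).obj (N j)
  have hP : Monotone P := fun j j' h => leOfHom ((Subobject.pullback i).map (homOfLE (hN h)))
  let D : J ⥤ A :=
    { obj := fun j => cokernel (P j).arrow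
      map := fun {j j'} h => cokernel.desc _ (cokernel.π _) (by
        rw [← Subobject.ofLE_arrow (hP h.le), Category.assoc, cokernel.condition, comp_zero])
      map_id := fun j => coequalizer.hom_ext (by simp)
      map_comp := fun f g => coequalizer.hom_ext (by simp) }
  let E : J ⥤ A :=
    { obj := fun j => cokernel (N j).arrow
      map := fun {j j'} h => cokernel.desc _ (cokernel.π _) (by
        rw [← Subobject.ofLE_arrow (hN h.le), Category.assoc, cokernel.condition, comp_zero])
      map_id := fun j => coequalizer.hom_ext (by simp)
      map_comp := fun f g => coequalizer.hom_ext (by simp) }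
  let α : D ⟶ E :=
    { app := fun j => cokernel.map (P j).arrow (N j).arrow (Subobject.pullbackπ i (N j)) i
        (Subobject.isPullback i (N j)).w.symm
      naturality := fun j j' h => coequalizer.hom_ext (by simp [D, E]) }
  have : ∀ j, Mono (α.app j) := fun j => by
    refine Preadditive.mono_of_cancel_zero _ fun {T} x hx => ?_
    obtain ⟨T₁, π₁, _, y, hy⟩ := surjective_up_to_refinements_of_epi (cokernel.π (P j).arrow) x
    have h0 : (y ≫ i) ≫ cokernel.π (N j).arrow = 0 := by
      have h := congrArg (π₁ ≫ ·) hx
      simp only [comp_zero] at h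
      rw [← Category.assoc π₁, hy] at h
      simpa [α] using h
    obtain ⟨l, hl⟩ := (Subobject.factors_iff _ _).mp ((factors_iff_comp (y ≫ i)).mpr h0)
    have h1 : (P j).Factors y := (Subobject.factors_iff _ _).mpr
      ⟨(Subobject.isPullback i (N j)).lift l y hl, (Subobject.isPullback i (N j)).lift_snd _ _ _⟩
    rw [← cancel_epi π₁, hy, comp_zero]
    exact (factors_iff_comp _).1 h1
  have := NatTrans.mono_of_mono_app α
  have hE : IsZero (colimit E) := by
    rw [IsZero.iff_id_eq_zero]
    refine colimit.hom_ext fun j => ?_
    rw [Category.comp_id, comp_zero, ← cancel_epi (cokernel.π (N j).arrow), comp_zero]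
    refine hc _ fun j' => ?_
    obtain ⟨k, hk, hk'⟩ := exists_ge_ge j j'
    have e : cokernel.π (N j).arrow ≫ colimit.ι E j = cokernel.π (N k).arrow ≫ colimit.ι E k := by
      rw [← colimit.w E (homOfLE hk)]; simp [E]
    rw [e, ← Subobject.ofLE_arrow (hN hk'), Category.assoc]
    rw [← Category.assoc (N k).arrow, cokernel.condition, zero_comp, comp_zero]
  have hD : IsZero (colimit D) := IsZero.of_mono (colim.map α) hE
  let c : Cocone D := Cocone.mk Z
    { app := fun j => cokernel.desc _ g (hg j)
      naturality := fun j j' h => coequalizer.hom_ext (by simp [D]) }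
  obtain ⟨j⟩ := ‹Nonempty J›
  have h := colimit.ι_desc c j
  rw [hD.eq_of_src (colimit.desc D c) 0, comp_zero] at h
  rw [← cokernel.π_desc (P j).arrow g (hg j)]
  exact (congrArg (cokernel.π (P j).arrow ≫ ·) h.symm).trans comp_zero

omit [IsDirectedOrder J] [Nonempty J] [HasColimitsOfSize.{w, w} A] [AB5OfSize.{w, w} A] in
/-- Images of a covering family under an epimorphism cover. -/
theorem Covers.image {N : J → Subobject X} (hc : Covers N) {Y : A} (p : X ⟶ Y) [Epi p] :
    Covers fun j => imageSubobject ((N j).arrow ≫ p) := by
  intro Z g hg
  rw [← cancel_epi p, comp_zero]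
  refine hc _ fun j => ?_
  rw [← Category.assoc, ← imageSubobject_arrow_comp ((N j).arrow ≫ p), Category.assoc, hg, comp_zero]

end Groth.Agent.SubobjQuot
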