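import Mathlib.CategoryTheory.Abelian.Refinements
import Mathlib.CategoryTheory.Abelian.Subobject
import Mathlib.CategoryTheory.Simple
import Mathlib.CategoryTheory.Subobject.Lattice
import Mathlib.CategoryTheory.Subobject.ArtinianObject
import Mathlib.CategoryTheory.Subobject.NoetherianObject
import Mathlib.Order.JordanHolder
import Mathlib.Order.ModularLattice
import Mathlib.Tactic

/-!
Subobjects in an abelian category: generalized elements of suprema, the modular law, the second
isomorphism theorem, covering relation and simple subquotients.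
-/

set_option autoImplicit false
universe v u

open CategoryTheory CategoryTheory.Limits

namespace Groth.Agent.SubobjQuot

variable {A : Type u} [Category.{v} A] [Abelian A] {X : A}

/-- The subquotient `y/x`. -/
noncomputable abbrev quot {x y : Subobject X} (h : x ≤ y) : A := cokernel (Subobject.ofLE x y h)

theorem factors_iff_comp {P : Subobject X} {T : A} (f : T ⟶ X) :
    P.Factors f ↔ f ≫ cokernel.π P.arrow = 0 := by
  constructor
  · intro h
    rw [← Subobject.factorThru_arrow P f h, Category.assoc, cokernel.condition, comp_zero]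
  · intro h
    rw [← Abelian.monoLift_comp P.arrow f h]
    exact Subobject.factors_comp_arrow _

theorem factors_of_epi_comp {P : Subobject X} {T T' : A} (π : T' ⟶ T) [Epi π] (f : T ⟶ X)
    (h : P.Factors (π ≫ f)) : P.Factors f := by
  rw [factors_iff_comp] at h ⊢
  rw [Category.assoc] at h
  exact zero_of_epi_comp π h

theorem factors_sub {P : Subobject X} {T : A} {f g : T ⟶ X} (hf : P.Factors f) (hg : P.Factors g) :
    P.Factors (f - g) := by
  rw [factors_iff_comp] at hf hg ⊢
  rw [Preadditive.sub_comp, hf, hg, sub_zero]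

theorem factors_comp {P : Subobject X} {T T' : A} (π : T' ⟶ T) {f : T ⟶ X} (hf : P.Factors f) :
    P.Factors (π ≫ f) := by
  rw [factors_iff_comp] at hf ⊢
  rw [Category.assoc, hf, comp_zero]

theorem le_of_factors {P Q : Subobject X} (h : Q.Factors P.arrow) : P ≤ Q :=
  Subobject.le_of_comm (Q.factorThru _ h) (Subobject.factorThru_arrow _ _ _)

theorem arrow_factors_of_le {P Q : Subobject X} (h : P ≤ Q) : Q.Factors P.arrow :=
  Subobject.factors_of_le _ h (by simpa using Subobject.factors_comp_arrow (P := P) (𝟙 _))

theorem sup_eq_image (x y : Subobject X) :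
    x ⊔ y = imageSubobject (biprod.desc x.arrow y.arrow) := by
  apply le_antisymm
  · refine sup_le ?_ ?_
    · exact Subobject.le_of_comm (biprod.inl ≫ factorThruImageSubobject _) (by simp)
    · exact Subobject.le_of_comm (biprod.inr ≫ factorThruImageSubobject _) (by simp)
  · exact imageSubobject_le _ (biprod.desc (Subobject.ofLE x _ le_sup_left)
      (Subobject.ofLE y _ le_sup_right)) (by ext <;> simp)

/-- Generalized elements of a supremum are sums, up to refinement. -/
theorem exists_of_factors_sup {x y : Subobject X} {T : A} (f : T ⟶ X)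
    (hf : (x ⊔ y).Factors f) :
    ∃ (T' : A) (π : T' ⟶ T) (_ : Epi π) (b c : T' ⟶ X),
      x.Factors b ∧ y.Factors c ∧ π ≫ f = b + c := by
  rw [sup_eq_image] at hf
  let S := imageSubobject (biprod.desc x.arrow y.arrow)
  obtain ⟨T', π, hπ, t, ht⟩ := surjective_up_to_refinements_of_epi
    (factorThruImageSubobject (biprod.desc x.arrow y.arrow)) (S.factorThru f hf)
  refine ⟨T', π, hπ, (t ≫ biprod.fst) ≫ x.arrow, (t ≫ biprod.snd) ≫ y.arrow,
    Subobject.factors_comp_arrow _, Subobject.factors_comp_arrow _, ?_⟩
  rw [← Subobject.factorThru_arrow S f hf, reassoc_of% ht, imageSubobject_arrow_comp]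
  simp [biprod.desc_eq]

instance : IsModularLattice (Subobject X) where
  sup_inf_le_assoc_of_le {x} y {z} hxz := by
    apply le_of_factors
    let a := ((x ⊔ y) ⊓ z).arrow
    have hz : z.Factors a := arrow_factors_of_le inf_le_right
    obtain ⟨T', π, hπ, b, c, hb, hc, e⟩ :=
      exists_of_factors_sup a (arrow_factors_of_le inf_le_left)
    have hc' : z.Factors c := by
      rw [show c = π ≫ a - b by rw [e, add_sub_cancel_left]]
      exact factors_sub (factors_comp π hz) (Subobject.factors_of_le _ hxz hb)
    apply factors_of_epi_comp π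
    show (x ⊔ y ⊓ z).Factors (π ≫ a)
    rw [e]
    exact Subobject.factors_add _ _ (Subobject.sup_factors_of_factors_left hb)
      (Subobject.sup_factors_of_factors_right ((Subobject.inf_factors c).mpr ⟨hc, hc'⟩))

/-- The second isomorphism theorem. -/
theorem second_iso (x y : Subobject X) :
    Nonempty (quot (le_sup_left : x ≤ x ⊔ y) ≅ quot (inf_le_right : x ⊓ y ≤ y)) := by
  let φ : (y : A) ⟶ quot (le_sup_left : x ≤ x ⊔ y) :=
    Subobject.ofLE y _ le_sup_right ≫ cokernel.π _
  have hw : Subobject.ofLE (x ⊓ y) y inf_le_right ≫ φ = 0 := by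
    show _ ≫ _ ≫ _ = 0
    rw [Subobject.ofLE_comp_ofLE_assoc, ← Subobject.ofLE_comp_ofLE (x ⊓ y) x (x ⊔ y) inf_le_left
      le_sup_left, Category.assoc, cokernel.condition, comp_zero]
  have hepi : Epi φ := by
    rw [epi_iff_surjective_up_to_refinements]
    intro T t
    obtain ⟨T₁, π₁, _, s, hs⟩ := surjective_up_to_refinements_of_epi (cokernel.π _) t
    obtain ⟨T₂, π₂, _, b, c, hb, hc, e⟩ := exists_of_factors_sup (s ≫ (x ⊔ y).arrow)
      (Subobject.factors_comp_arrow _)
    refine ⟨T₂, π₂ ≫ π₁, inferInstance, y.factorThru c hc, ?_⟩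
    have e' : π₂ ≫ s = x.factorThru b hb ≫ Subobject.ofLE x _ le_sup_left +
        y.factorThru c hc ≫ Subobject.ofLE y _ le_sup_right := by
      rw [← cancel_mono (x ⊔ y).arrow]; simpa using e
    rw [Category.assoc, hs, reassoc_of% e', Preadditive.add_comp]
    simp [φ]
  have hex : (ShortComplex.mk _ φ hw).Exact := by
    rw [ShortComplex.exact_iff_exact_up_to_refinements]
    intro T t ht
    dsimp at t ht
    refine ⟨T, 𝟙 T, inferInstance, (x ⊓ y).factorThru (t ≫ y.arrow)
      ((Subobject.inf_factors _).mpr ⟨?_, Subobject.factors_comp_arrow _⟩), ?_⟩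
    · have h1 : t ≫ Subobject.ofLE y _ le_sup_right ≫ cokernel.π (Subobject.ofLE x _ le_sup_left) = 0 :=
        ht
      rw [← Category.assoc] at h1
      have h2 := Abelian.monoLift_comp (Subobject.ofLE x (x ⊔ y) le_sup_left) _ h1
      rw [show t ≫ y.arrow = (t ≫ Subobject.ofLE y _ le_sup_right) ≫ (x ⊔ y).arrow by simp, ← h2]
      simp only [Category.assoc, Subobject.ofLE_arrow]
      exact Subobject.factors_comp_arrow _
    · rw [← cancel_mono y.arrow]; simp
  exact ⟨(IsColimit.coconePointUniqueUpToIso (colimit.isColimit _) hex.gIsCokernel).symm⟩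

theorem lt_of_simple {x y : Subobject X} (h : x ≤ y) (hs : Simple (quot h)) : x < y := by
  refine lt_of_le_of_ne h fun e => ?_
  subst e
  have : Epi (Subobject.ofLE x x h) := by rw [Subobject.ofLE_refl]; infer_instance
  exact @Simple.not_isZero _ _ _ _ hs (isZero_cokernel_of_epi _)

theorem covBy_iff_simple {x y : Subobject X} (h : x ≤ y) : x ⋖ y ↔ Simple (quot h) := by
  constructor
  · intro hc
    refine ⟨fun {Z} f _ => ⟨?_, fun hf => ?_⟩⟩
    · intro hf h0
      subst h0
      have hQ : IsZero (quot h) := by
        rw [IsZero.iff_id_eq_zero, ← IsIso.inv_hom_id (0 : Z ⟶ quot h), comp_zero]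
      have : Epi (Subobject.ofLE x y h) :=
        Preadditive.epi_of_cokernel_zero (hQ.eq_of_tgt _ _)
      have : IsIso (Subobject.ofLE x y h) := isIso_of_mono_of_epi _
      exact hc.lt.ne (Subobject.eq_of_comm (asIso (Subobject.ofLE x y h)) (by simp))
    · let q := cokernel.π (Subobject.ofLE x y h)
      let z := Subobject.mk (pullback.fst q f ≫ y.arrow)
      have hzy : z ≤ y := Subobject.mk_le_of_comm _ rfl
      have hxz : x ≤ z := Subobject.le_mk_of_comm
        (pullback.lift (Subobject.ofLE x y h) 0 (by rw [zero_comp]; exact cokernel.condition _)) (by rw [pullback.lift_fst_assoc]; simp)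
      have : Epi (pullback.snd q f) := Abelian.epi_pullback_of_epi_f q f
      rcases hc.eq_or_eq hxz hzy with e | e
      · exfalso; apply hf
        apply zero_of_epi_comp (pullback.snd q f)
        rw [← pullback.condition]
        have hx : x.Factors (pullback.fst q f ≫ y.arrow) := by
          refine Subobject.factors_of_le _ e.le ?_; exact Subobject.mk_factors_self _
        rw [show pullback.fst q f = x.factorThru _ hx ≫ Subobject.ofLE x y h by
          rw [← cancel_mono y.arrow]; simp, Category.assoc, cokernel.condition, comp_zero]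
      · have hy : z.Factors y.arrow := by rw [e]; exact arrow_factors_of_le le_rfl
        obtain ⟨g, hg⟩ : ∃ g, g ≫ pullback.fst q f ≫ y.arrow = y.arrow :=
          ⟨z.factorThru _ hy ≫ (Subobject.underlyingIso _).hom, by simp [z]⟩
        have hg' : g ≫ pullback.fst q f = 𝟙 _ := by rw [← cancel_mono y.arrow]; simpa using hg
        have : Epi f := by
          have : Epi ((g ≫ pullback.snd q f) ≫ f) := by
            rw [Category.assoc, ← pullback.condition, reassoc_of% hg']; infer_instance
          exact epi_of_epi (g ≫ pullback.snd q f) f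
        exact isIso_of_mono_of_epi f
  · intro hs
    refine ⟨lt_of_simple h hs, fun z hxz hzy => ?_⟩
    let ψ : (z : A) ⟶ quot h := Subobject.ofLE z y hzy.le ≫ cokernel.π _
    by_cases hψ : ψ = 0
    · refine hxz.not_ge (Subobject.le_of_comm
        (Abelian.monoLift (Subobject.ofLE x y h) (Subobject.ofLE z y hzy.le) hψ) ?_)
      rw [← Subobject.ofLE_arrow h, ← Category.assoc, Abelian.monoLift_comp, Subobject.ofLE_arrow]
    · have := epi_of_nonzero_to_simple hψ
      refine hzy.not_ge (le_of_factors ?_)
      obtain ⟨T, π, hπ, w, hw⟩ := surjective_up_to_refinements_of_epi ψ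
        (cokernel.π (Subobject.ofLE x y h))
      apply factors_of_epi_comp π
      have h1 : (π - w ≫ Subobject.ofLE z y hzy.le) ≫ cokernel.π (Subobject.ofLE x y h) = 0 := by
        rw [Preadditive.sub_comp, hw, Category.assoc]; exact sub_self _
      have h2 := congrArg (· ≫ y.arrow) (Abelian.monoLift_comp (Subobject.ofLE x y h) _ h1)
      simp only [Category.assoc, Subobject.ofLE_arrow, Preadditive.sub_comp] at h2
      rw [← sub_add_cancel (π ≫ y.arrow) (w ≫ z.arrow), ← h2]
      exact Subobject.factors_add _ _
        (Subobject.factors_of_le _ hxz.le (Subobject.factors_comp_arrow _))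
        (Subobject.factors_comp_arrow _)

/-- The map splitting `Iic y` along a covering `x ⋖ y`. -/
noncomputable def split {L : Type*} [Lattice L] (x : L) {y : L} (z : Set.Iic y) : Set.Iic x × Bool :=
  (⟨z.1 ⊓ x, inf_le_right⟩, @decide ((z.1 ⊔ x) = y) (Classical.propDecidable _))

theorem strictMono_split {L : Type*} [Lattice L] [IsModularLattice L] {x y : L} (h : x ⋖ y) :
    StrictMono (split x (y := y)) := by
  classical
  unfold split
  intro a b hab
  have h1 : a.1 ⊓ x ≤ b.1 ⊓ x := inf_le_inf_right _ (show a.1 ≤ b.1 from hab.le)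
  have ha := h.eq_or_eq le_sup_right (sup_le a.2 h.le)
  have hb := h.eq_or_eq le_sup_right (sup_le b.2 h.le)
  have h2 : a.1 ⊔ x ≤ b.1 ⊔ x := sup_le_sup_right (show a.1 ≤ b.1 from hab.le) _
  rcases h1.lt_or_eq with h1 | h1
  · refine Prod.mk_lt_mk_of_lt_of_le h1 ?_
    rw [Bool.le_iff_imp]
    simp only [decide_eq_true_eq]
    exact fun e => le_antisymm (sup_le b.2 h.le) (e.symm.trans_le h2)
  · refine Prod.mk_lt_mk_of_le_of_lt (Subtype.mk_le_mk.mpr h1.le) ?_
    have hne : b.1 ⊔ x ≠ a.1 ⊔ x := fun e =>
      hab.ne (Subtype.ext (eq_of_le_of_inf_le_of_sup_le hab.le h1.ge e.le))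
    rw [Bool.lt_iff]
    simp only [decide_eq_false_iff_not, decide_eq_true_eq]
    rcases ha with ha | ha <;> rcases hb with hb | hb
    · exact absurd (hb.trans ha.symm) hne
    · exact ⟨fun e => h.ne (ha.symm.trans e), hb⟩
    · exact absurd (ha.symm.trans_le (h2.trans_eq hb)) h.lt.not_ge
    · exact absurd (hb.trans ha.symm) hne

end Groth.Agent.SubobjQuot
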